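import Mathlib.LinearAlgebra.QuadraticForm.Basic
import Mathlib.FieldTheory.ChevalleyWarning
import Mathlib.LinearAlgebra.Dimension.Constructions
import Mathlib.LinearAlgebra.FiniteDimensional.Lemmas
import Mathlib.RingTheory.MvPolynomial.Homogeneous
import Mathlib.Tactic

/-!
# Zeros of quadratic forms without singular zeros over a finite field
-/

set_option autoImplicit false
noncomputable section

universe u v

open Module QuadraticMap

namespace Groth.Agent.Quadric29

variable {K : Type u} [Field K] {V : Type v} [AddCommGroup V] [Module K V]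

/-- No singular zero. -/
def Nd (Q : QuadraticForm K V) : Prop :=
  ∀ v : V, v ≠ 0 → Q v = 0 → ∃ w, polar Q v w ≠ 0

/-- Totally singular subspace of dimension `m`. -/
def TI (Q : QuadraticForm K V) (m : ℕ) : Prop :=
  ∃ W : Submodule K V, finrank K W = m ∧ ∀ w ∈ W, Q w = 0

theorem polar_of_mem {Q : QuadraticForm K V} {W : Submodule K V} (hW : ∀ w ∈ W, Q w = 0) {v w : V}
    (hv : v ∈ W) (hw : w ∈ W) : polar Q v w = 0 := by
  rw [polar, hW _ (W.add_mem hv hw), hW _ hv, hW _ hw]; ring

variable {Q : QuadraticForm K V} {v w : V}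

/-- The orthogonal of a hyperbolic pair. -/
def orth (Q : QuadraticForm K V) (v w : V) : Submodule K V :=
  LinearMap.ker (Q.polarBilin v) ⊓ LinearMap.ker (Q.polarBilin w)

theorem mem_orth {x : V} : x ∈ orth Q v w ↔ polar Q v x = 0 ∧ polar Q w x = 0 := by
  simp [orth, LinearMap.mem_ker]

theorem exists_pair (hnd : Nd Q) (hv : v ≠ 0) (hQ : Q v = 0) :
    ∃ w, Q w = 0 ∧ polar Q v w = 1 := by
  obtain ⟨w, hw⟩ := hnd v hv hQ
  obtain ⟨w₀, h1⟩ : ∃ w₀, polar Q v w₀ = 1 :=
    ⟨(polar Q v w)⁻¹ • w, by rw [polar_smul_right, smul_eq_mul, inv_mul_cancel₀ hw]⟩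
  refine ⟨w₀ + (-Q w₀) • v, ?_, ?_⟩
  · rw [QuadraticMap.map_add Q, polar_smul_right, polar_comm Q w₀ v, h1, QuadraticMap.map_smul, hQ]
    simp
  · rw [polar_add_right, polar_smul_right, polar_self, hQ, h1]
    simp

variable (hv : Q v = 0) (hw : Q w = 0) (hvw : polar Q v w = 1)

include hv hw hvw

/-- Coordinates adapted to a hyperbolic pair. -/
def splitEquiv : ((K × K) × orth Q v w) ≃ₗ[K] V :=
  LinearEquiv.ofBijective
    ((LinearMap.coprod (LinearMap.coprod (LinearMap.toSpanSingleton K V v) (LinearMap.toSpanSingleton K V w))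
      (orth Q v w).subtype))
    (by
      have hwv : polar Q w v = 1 := by rw [polar_comm, hvw]
      have hvv : polar Q v v = 0 := by rw [polar_self, hv]; simp
      have hww : polar Q w w = 0 := by rw [polar_self, hw]; simp
      constructor
      · rw [injective_iff_map_eq_zero]
        rintro ⟨⟨a, b⟩, u⟩ h
        simp only [LinearMap.coprod_apply, LinearMap.toSpanSingleton_apply, Submodule.subtype_apply] at h
        obtain ⟨hu1, hu2⟩ := mem_orth.1 u.2
        have hb : b = 0 := by
          have := congrArg (polar Q v) h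
          simpa [polar_add_right, polar_smul_right, hvv, hvw, hu1, polar_zero_right] using this
        have ha : a = 0 := by
          have := congrArg (polar Q w) h
          simpa [polar_add_right, polar_smul_right, hwv, hww, hu2, polar_zero_right] using this
        subst ha hb
        simp only [zero_smul, zero_add] at h
        exact Prod.ext rfl (Subtype.ext h)
      · intro x
        refine ⟨((polar Q w x, polar Q v x), ⟨x - polar Q w x • v - polar Q v x • w, ?_⟩), ?_⟩
        · refine mem_orth.2 ⟨?_, ?_⟩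
          · simp [polar_sub_right, polar_smul_right, hvv, hvw]
          · simp [polar_sub_right, polar_smul_right, hwv, hww]
        · simp only [LinearMap.coprod_apply, LinearMap.toSpanSingleton_apply, Submodule.subtype_apply]
          abel)

theorem splitEquiv_apply (a b : K) (u : orth Q v w) :
    splitEquiv hv hw hvw ((a, b), u) = a • v + b • w + u := rfl

theorem map_split (a b : K) (u : orth Q v w) :
    Q (splitEquiv hv hw hvw ((a, b), u)) = a * b + Q (u : V) := by
  obtain ⟨hu1, hu2⟩ := mem_orth.1 u.2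
  rw [splitEquiv_apply, QuadraticMap.map_add Q, QuadraticMap.map_add Q, QuadraticMap.map_smul,
    QuadraticMap.map_smul, hv, hw, polar_add_left, polar_smul_left, polar_smul_left, polar_smul_left,
    polar_smul_right, hvw, hu1, hu2]
  simp

theorem finrank_split [FiniteDimensional K V] : finrank K V = finrank K (orth Q v w) + 2 := by
  rw [← (splitEquiv hv hw hvw).finrank_eq, Module.finrank_prod, Module.finrank_prod, Module.finrank_self]
  ring

theorem nd_split (hnd : Nd Q) : Nd (Q.comp (orth Q v w).subtype) := by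
  intro u hu hQu
  obtain ⟨x, hx⟩ := hnd (u : V) (fun h => hu (Subtype.ext h)) hQu
  obtain ⟨⟨⟨a, b⟩, y⟩, rfl⟩ := (splitEquiv hv hw hvw).surjective x
  refine ⟨y, fun h => hx ?_⟩
  obtain ⟨hu1, hu2⟩ := mem_orth.1 u.2
  rw [splitEquiv_apply, polar_add_right, polar_add_right, polar_smul_right, polar_smul_right,
    polar_comm Q (u : V) v, polar_comm Q (u : V) w, hu1, hu2]
  have : polar Q (u : V) (y : V) = 0 := by simpa [polar] using h
  simp [this]

theorem TI_of_split [FiniteDimensional K V] {m : ℕ} (h : TI (Q.comp (orth Q v w).subtype) m) : TI Q (m + 1) := by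
  obtain ⟨W, hW, hW0⟩ := h
  let f : K × W →ₗ[K] V :=
    (LinearMap.toSpanSingleton K V v).coprod ((orth Q v w).subtype.comp W.subtype)
  have hf : Function.Injective f := by
    rw [injective_iff_map_eq_zero]
    rintro ⟨a, y⟩ h
    have h' : splitEquiv hv hw hvw ((a, 0), (y : orth Q v w)) = 0 := by
      rw [splitEquiv_apply]; simpa [f] using h
    rw [LinearEquiv.map_eq_zero_iff, Prod.ext_iff, Prod.ext_iff] at h'
    exact Prod.ext h'.1.1 (Subtype.ext h'.2)
  refine ⟨LinearMap.range f, ?_, ?_⟩
  · rw [LinearMap.finrank_range_of_inj hf, Module.finrank_prod, Module.finrank_self, hW, add_comm]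
  · rintro _ ⟨⟨a, y⟩, rfl⟩
    have h' : f (a, y) = splitEquiv hv hw hvw ((a, 0), (y : orth Q v w)) := by
      rw [splitEquiv_apply]; simp [f]
    rw [h', map_split hv hw hvw, mul_zero, zero_add]
    exact hW0 y y.2

theorem split_of_TI [FiniteDimensional K V] {m : ℕ} {W : Submodule K V} (hW : finrank K W = m + 1)
    (hW0 : ∀ x ∈ W, Q x = 0) (hvW : v ∈ W) : TI (Q.comp (orth Q v w).subtype) m := by
  let φ : W →ₗ[K] K := (Q.polarBilin w).comp W.subtype
  have hφ : LinearMap.range φ = ⊤ := LinearMap.range_eq_top.2 fun c => ⟨c • ⟨v, hvW⟩, by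
    simp [φ, polar_comm Q w v, hvw]⟩
  have hk : finrank K (LinearMap.ker φ) = m := by
    have := φ.finrank_range_add_finrank_ker
    rw [hφ, finrank_top, Module.finrank_self, hW] at this
    omega
  have hle : ∀ x : LinearMap.ker φ, ((x : W) : V) ∈ orth Q v w := fun x => mem_orth.2
    ⟨polar_of_mem hW0 hvW x.1.2, (LinearMap.mem_ker.1 x.2 :)⟩
  let g : LinearMap.ker φ →ₗ[K] orth Q v w :=
    LinearMap.codRestrict _ (W.subtype.comp (LinearMap.ker φ).subtype) hle
  have hg : Function.Injective g := fun a b h => Subtype.ext (Subtype.ext (congrArg Subtype.val h :))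
  refine ⟨LinearMap.range g, by rw [LinearMap.finrank_range_of_inj hg, hk], ?_⟩
  rintro _ ⟨x, rfl⟩
  exact hW0 _ x.1.2

theorem card_zero_split [Fintype K] [FiniteDimensional K V] :
    (Nat.card {x : V // Q x = 0} : ℤ) =
      Fintype.card K * Nat.card {u : orth Q v w // Q (u : V) = 0} +
        ((Fintype.card K : ℤ) - 1) * (Fintype.card K : ℤ) ^ finrank K (orth Q v w) := by
  classical
  haveI : Finite V := Module.finite_of_finite K
  let O := orth Q v w
  let _ : Fintype O := Fintype.ofFinite _
  let e : {x : V // Q x = 0} ≃ Σ u : O, {p : K × K // p.1 * p.2 + Q (u : V) = 0} :=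
    { toFun := fun x => ⟨((splitEquiv hv hw hvw).symm x.1).2, ((splitEquiv hv hw hvw).symm x.1).1, by
        have := map_split hv hw hvw ((splitEquiv hv hw hvw).symm x.1).1.1 ((splitEquiv hv hw hvw).symm x.1).1.2
          ((splitEquiv hv hw hvw).symm x.1).2
        exact this.symm.trans ((congrArg Q (LinearEquiv.apply_symm_apply _ x.1)).trans x.2)⟩
      invFun := fun p => ⟨splitEquiv hv hw hvw (p.2.1, p.1), by
        rw [show p.2.1 = (p.2.1.1, p.2.1.2) from rfl, map_split hv hw hvw]; exact p.2.2⟩
      left_inv := fun x => Subtype.ext (by simp)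
      right_inv := fun p => by
        obtain ⟨u, ⟨a, b⟩, hp⟩ := p
        have h1 := (splitEquiv hv hw hvw).symm_apply_apply ((a, b), u)
        refine Sigma.subtype_ext (congrArg Prod.snd h1) (congrArg Prod.fst h1) }
  have hfib : ∀ u : O, (Nat.card {p : K × K // p.1 * p.2 + Q (u : V) = 0} : ℤ) =
      ((Fintype.card K : ℤ) - 1) + if Q (u : V) = 0 then (Fintype.card K : ℤ) else 0 := by
    intro u
    have hu : Nat.card Kˣ + 1 = Fintype.card K := by
      rw [Nat.card_eq_fintype_card, Fintype.card_units]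
      have := Fintype.card_pos (α := K)
      omega
    split_ifs with h
    · let e' : {p : K × K // p.1 * p.2 + Q (u : V) = 0} ≃ (Kˣ ⊕ K) :=
        { toFun := fun p => if h' : p.1.1 = 0 then Sum.inr p.1.2 else Sum.inl (Units.mk0 _ h')
          invFun := Sum.elim (fun a => ⟨((a : K), 0), by simp [h]⟩) (fun b => ⟨(0, b), by simp [h]⟩)
          left_inv := fun p => by
            obtain ⟨⟨a, b⟩, hp⟩ := p
            by_cases ha : a = 0
            · simp [ha]
            · have hb : b = 0 := by simpa [h, ha] using hp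
              simp [ha, hb]
          right_inv := fun s => by
            rcases s with a | b <;> simp }
      rw [Nat.card_congr e', Nat.card_sum, Nat.card_eq_fintype_card (α := K)]
      push_cast [← hu]
      ring
    · let e' : {p : K × K // p.1 * p.2 + Q (u : V) = 0} ≃ Kˣ :=
        { toFun := fun p => Units.mk0 p.1.1 (fun h' => h (by simpa [h'] using p.2))
          invFun := fun a => ⟨((a : K), -Q (u : V) * (a : K)⁻¹), by field_simp; ring⟩
          left_inv := fun p => by
            obtain ⟨⟨a, b⟩, hp⟩ := p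
            have ha : a ≠ 0 := fun h' => h (by simpa [h'] using hp)
            refine Subtype.ext (Prod.ext rfl ?_)
            show -Q (u : V) * a⁻¹ = b
            rw [show -Q (u : V) = a * b by linear_combination -hp]
            field_simp
          right_inv := fun a => Units.ext rfl }
      rw [Nat.card_congr e', ← hu]
      push_cast
      ring
  rw [Nat.card_congr e, Nat.card_sigma]
  push_cast
  rw [Finset.sum_congr rfl (fun u _ => hfib u), Finset.sum_add_distrib, Finset.sum_const,
    Finset.card_univ, ← Finset.sum_filter, Finset.sum_const, nsmul_eq_mul, nsmul_eq_mul,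
    Module.card_eq_pow_finrank (K := K) (V := O), Nat.card_eq_fintype_card (α := {u : O // Q (u : V) = 0}),
    Fintype.card_subtype]
  push_cast
  ring

omit hv hw hvw

theorem exists_zero [Finite K] [FiniteDimensional K V] (h3 : 3 ≤ finrank K V) :
    ∃ x : V, x ≠ 0 ∧ Q x = 0 := by
  classical
  let _ : Fintype K := Fintype.ofFinite K
  obtain ⟨p, hp⟩ := CharP.exists K
  haveI : Fact p.Prime := ⟨CharP.char_is_prime K p⟩
  let b : Fin 3 → V := fun i => Module.finBasis K V (Fin.castLE h3 i)
  have hb : LinearIndependent K b :=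
    (Module.finBasis K V).linearIndependent.comp _ (Fin.castLE_injective h3)
  let P : MvPolynomial (Fin 3) K :=
    ∑ i : Fin 3, MvPolynomial.C (Q (b i)) * (MvPolynomial.X i * MvPolynomial.X i) +
      (MvPolynomial.C (polar Q (b 0) (b 1)) * (MvPolynomial.X 0 * MvPolynomial.X 1) +
        (MvPolynomial.C (polar Q (b 0) (b 2)) * (MvPolynomial.X 0 * MvPolynomial.X 2) +
          MvPolynomial.C (polar Q (b 1) (b 2)) * (MvPolynomial.X 1 * MvPolynomial.X 2)))
  have hdeg : P.totalDegree < Fintype.card (Fin 3) := by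
    have hm : ∀ (c : K) (i j : Fin 3), (MvPolynomial.C c * (MvPolynomial.X i * MvPolynomial.X j)).IsHomogeneous 2 :=
      fun c i j => MvPolynomial.IsHomogeneous.C_mul ((MvPolynomial.isHomogeneous_X K i).mul (MvPolynomial.isHomogeneous_X K j)) c
    have : P.IsHomogeneous 2 :=
      (MvPolynomial.IsHomogeneous.sum _ _ _ fun i _ => hm _ i i).add ((hm _ 0 1).add ((hm _ 0 2).add (hm _ 1 2)))
    exact lt_of_le_of_lt this.totalDegree_le (by simp)
  have hev : ∀ x : Fin 3 → K, MvPolynomial.eval x P = Q (x 0 • b 0 + x 1 • b 1 + x 2 • b 2) := by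
    intro x
    simp only [P, map_add, map_mul, Fin.sum_univ_three, MvPolynomial.eval_C, MvPolynomial.eval_X]
    simp only [QuadraticMap.map_add Q, polar_add_left, polar_smul_left, polar_smul_right,
      QuadraticMap.map_smul, smul_eq_mul]
    ring
  have hdvd := char_dvd_card_solutions p hdeg
  have h0 : MvPolynomial.eval (0 : Fin 3 → K) P = 0 := by rw [hev]; simp
  have hlt : 1 < Fintype.card {x : Fin 3 → K // MvPolynomial.eval x P = 0} := by
    have hpos : 0 < Fintype.card {x : Fin 3 → K // MvPolynomial.eval x P = 0} :=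
      Fintype.card_pos_iff.2 ⟨⟨0, h0⟩⟩
    exact lt_of_lt_of_le (Fact.out : p.Prime).one_lt (Nat.le_of_dvd hpos hdvd)
  obtain ⟨⟨x, hx⟩, hne⟩ := Fintype.exists_ne_of_one_lt_card hlt ⟨0, h0⟩
  refine ⟨x 0 • b 0 + x 1 • b 1 + x 2 • b 2, fun h => hne (Subtype.ext ?_), (hev x).symm.trans hx⟩
  funext i
  exact Fintype.linearIndependent_iff.1 hb x (by rw [Fin.sum_univ_three]; exact h) i

theorem card_anisotropic [FiniteDimensional K V] (h : ∀ x : V, x ≠ 0 → Q x ≠ 0) :
    Nat.card {x : V // Q x = 0} = 1 :=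
  Nat.card_eq_one_iff_unique.2 ⟨⟨fun a b => Subtype.ext (by
    rw [(by_contra fun ha => h _ ha a.2 : a.1 = 0), (by_contra fun hb => h _ hb b.2 : b.1 = 0)])⟩,
    ⟨⟨0, QuadraticMap.map_zero Q⟩⟩⟩

/-- Number of zeros in odd dimension. -/
theorem card_odd [Fintype K] : ∀ (m : ℕ) {V : Type v} [AddCommGroup V] [Module K V] [FiniteDimensional K V]
    (Q : QuadraticForm K V), Nd Q → finrank K V = 2 * m + 1 →
    (Nat.card {x : V // Q x = 0} : ℤ) = (Fintype.card K : ℤ) ^ (2 * m)
  | 0, V, _, _, _, Q, hnd, hd => by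
    rw [card_anisotropic fun x hx hQ => ?_]
    · simp
    obtain ⟨w, hw⟩ := hnd x hx hQ
    obtain ⟨c, rfl⟩ := (finrank_eq_one_iff_of_nonzero' x hx).1 (by omega) w
    rw [polar_smul_right, polar_self, hQ] at hw
    simp at hw
  | m + 1, V, _, _, _, Q, hnd, hd => by
    obtain ⟨v, hv0, hv⟩ := exists_zero (Q := Q) (by omega)
    obtain ⟨w, hw, hvw⟩ := exists_pair hnd hv0 hv
    have hd' := finrank_split hv hw hvw
    rw [card_zero_split hv hw hvw]
    have h := card_odd m (Q.comp (orth Q v w).subtype) (nd_split hv hw hvw hnd) (by omega)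
    simp only [QuadraticMap.comp_apply, Submodule.subtype_apply] at h
    rw [h, show finrank K (orth Q v w) = 2 * m + 1 by omega]
    ring

/-- Number of zeros in even dimension. -/
theorem card_even [Fintype K] : ∀ (m : ℕ) {V : Type v} [AddCommGroup V] [Module K V] [FiniteDimensional K V]
    (Q : QuadraticForm K V), Nd Q → finrank K V = 2 * m + 2 →
    (TI Q (m + 1) → (Nat.card {x : V // Q x = 0} : ℤ) =
      (Fintype.card K : ℤ) ^ (2 * m + 1) + ((Fintype.card K : ℤ) ^ (m + 1) - (Fintype.card K : ℤ) ^ m)) ∧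
    (¬ TI Q (m + 1) → (Nat.card {x : V // Q x = 0} : ℤ) =
      (Fintype.card K : ℤ) ^ (2 * m + 1) - ((Fintype.card K : ℤ) ^ (m + 1) - (Fintype.card K : ℤ) ^ m)) := by
  intro m
  induction m with
  | zero =>
    intro V _ _ _ Q hnd hd
    have split : ∀ v : V, v ≠ 0 → Q v = 0 → TI Q 1 ∧
        (Nat.card {x : V // Q x = 0} : ℤ) = 2 * (Fintype.card K : ℤ) - 1 := by
      intro v hv0 hv
      obtain ⟨w, hw, hvw⟩ := exists_pair hnd hv0 hv
      have hd' := finrank_split hv hw hvw
      have hO : finrank K (orth Q v w) = 0 := by omega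
      haveI : Subsingleton (orth Q v w) := Module.finrank_zero_iff.1 hO
      refine ⟨⟨K ∙ v, finrank_span_singleton hv0, fun x hx => ?_⟩, ?_⟩
      · obtain ⟨c, rfl⟩ := Submodule.mem_span_singleton.1 hx
        rw [QuadraticMap.map_smul, hv, smul_zero]
      · rw [card_zero_split hv hw hvw, hO, Nat.card_eq_one_iff_unique.2
          ⟨inferInstance, ⟨⟨0, by simp⟩⟩⟩]
        ring
    refine ⟨fun ⟨W, hW, hW0⟩ => ?_, fun hno => ?_⟩
    · obtain ⟨v, hvW, hv0⟩ := W.exists_mem_ne_zero_of_ne_bot (fun h => by rw [h, finrank_bot] at hW; omega)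
      rw [(split v hv0 (hW0 v hvW)).2]; ring
    · rw [card_anisotropic fun x hx hQ => hno (split x hx hQ).1]
      ring
  | succ m ih =>
    intro V _ _ _ Q hnd hd
    have main : ∀ v w : V, Q v = 0 → Q w = 0 → polar Q v w = 1 →
        (TI (Q.comp (orth Q v w).subtype) (m + 1) → (Nat.card {x : V // Q x = 0} : ℤ) =
          (Fintype.card K : ℤ) ^ (2 * m + 3) + ((Fintype.card K : ℤ) ^ (m + 2) - (Fintype.card K : ℤ) ^ (m + 1))) ∧
        (¬ TI (Q.comp (orth Q v w).subtype) (m + 1) → (Nat.card {x : V // Q x = 0} : ℤ) =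
          (Fintype.card K : ℤ) ^ (2 * m + 3) - ((Fintype.card K : ℤ) ^ (m + 2) - (Fintype.card K : ℤ) ^ (m + 1))) := by
      intro v w hv hw hvw
      have hd' := finrank_split hv hw hvw
      obtain ⟨h1, h2⟩ := ih (Q.comp (orth Q v w).subtype) (nd_split hv hw hvw hnd) (by omega)
      simp only [QuadraticMap.comp_apply, Submodule.subtype_apply] at h1 h2
      rw [card_zero_split hv hw hvw, show finrank K (orth Q v w) = 2 * m + 2 by omega]
      exact ⟨fun h => by rw [h1 h]; ring, fun h => by rw [h2 h]; ring⟩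
    refine ⟨fun ⟨W, hW, hW0⟩ => ?_, fun hno => ?_⟩
    · obtain ⟨v, hvW, hv0⟩ := W.exists_mem_ne_zero_of_ne_bot (fun h => by rw [h, finrank_bot] at hW; omega)
      obtain ⟨w, hw, hvw⟩ := exists_pair hnd hv0 (hW0 v hvW)
      exact (main v w (hW0 v hvW) hw hvw).1 (split_of_TI (hW0 v hvW) hw hvw hW hW0 hvW)
    · obtain ⟨v, hv0, hv⟩ := exists_zero (Q := Q) (by omega)
      obtain ⟨w, hw, hvw⟩ := exists_pair hnd hv0 hv
      exact (main v w hv hw hvw).2 fun h => hno (TI_of_split hv hw hvw h)

end Groth.Agent.Quadric29
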