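import Mathlib.LinearAlgebra.QuadraticForm.Basic
import Mathlib.RingTheory.MvPolynomial.Homogeneous
import Mathlib.Algebra.MvPolynomial.PDeriv
import Mathlib.Tactic

/-!
# The quadratic form of a homogeneous polynomial of degree two
-/

set_option autoImplicit false
noncomputable section

universe u

open MvPolynomial QuadraticMap

namespace Groth.Agent.Quadric29

variable {K : Type u} [Field K] {N : ℕ}

theorem exists_two {s : Fin N →₀ ℕ} (hs : s.degree = 2) :
    ∃ i j, s = Finsupp.single i 1 + Finsupp.single j 1 := by
  have h0 : s ≠ 0 := fun h => by simp [h] at hs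
  obtain ⟨i, hi⟩ := Finsupp.ne_iff.1 h0
  have hle : Finsupp.single i 1 ≤ s := Finsupp.single_le_iff.2 (Nat.one_le_iff_ne_zero.2 hi)
  have ht : s = Finsupp.single i 1 + (s - Finsupp.single i 1) := (add_tsub_cancel_of_le hle).symm
  have hd : (s - Finsupp.single i 1).degree = 1 := by
    have := congrArg Finsupp.degree ht
    rw [map_add, Finsupp.degree_single, hs] at this
    omega
  obtain ⟨j, hj⟩ := Finsupp.ne_iff.1 (fun h => by simp [h] at hd : s - Finsupp.single i 1 ≠ 0)
  have hjle : Finsupp.single j 1 ≤ s - Finsupp.single i 1 :=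
    Finsupp.single_le_iff.2 (Nat.one_le_iff_ne_zero.2 hj)
  have ht' := (add_tsub_cancel_of_le hjle).symm
  have hd' := congrArg Finsupp.degree ht'
  rw [map_add, Finsupp.degree_single, hd] at hd'
  refine ⟨i, j, ht.trans ?_⟩
  have h0' : (s - Finsupp.single i 1 - Finsupp.single j 1).degree = 0 := by omega
  rw [ht', (Finsupp.degree_eq_zero_iff _).1 h0', add_zero]

/-- A form of degree two is a quadratic form; its polar is the gradient. -/
theorem exists_quadraticForm (P : MvPolynomial (Fin N) K) (hP : P.IsHomogeneous 2) :
    ∃ q : QuadraticForm K (Fin N → K), (∀ x, q x = eval x P) ∧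
      ∀ x y, polar q x y = ∑ i, y i * eval x (pderiv i P) := by
  classical
  have hmon : ∀ s ∈ P.support, ∃ q : QuadraticForm K (Fin N → K), (∀ x, q x = eval x (monomial s (coeff s P))) ∧
      ∀ x y, polar q x y = ∑ i, y i * eval x (pderiv i (monomial s (coeff s P))) := by
    intro s hs
    obtain ⟨a, b, rfl⟩ := exists_two (s := s) (by
      rw [Finsupp.degree_eq_weight_one]
      exact hP (mem_support_iff.1 hs))
    set c := coeff (Finsupp.single a 1 + Finsupp.single b 1) P
    have e : monomial (Finsupp.single a 1 + Finsupp.single b 1) c = C c * (X a * X b) := by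
      rw [X, X, monomial_mul, C_mul_monomial, mul_one, mul_one]
    refine ⟨c • QuadraticMap.linMulLin (LinearMap.proj a) (LinearMap.proj b), fun x => ?_, fun x y => ?_⟩
    · rw [e]; simp
    · rw [e]
      simp only [QuadraticMap.polar, smul_apply, linMulLin_apply, LinearMap.proj_apply, Pi.add_apply,
        smul_eq_mul, pderiv_C, map_mul, eval_C, Derivation.leibniz, pderiv_X, map_add, eval_X,
        mul_add, Finset.sum_add_distrib, Pi.single_apply]
      simp only [pderiv_C, map_zero, mul_zero, add_zero, smul_eval, mul_comm, apply_ite, map_one, map_zero, eval_X, ite_mul, mul_ite, one_mul, zero_mul,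
        mul_one, mul_zero, Finset.sum_ite_eq', Finset.sum_ite_eq, Finset.mem_univ, if_true, Finset.sum_const_zero, add_zero]
      ring
  choose! q hq hq' using hmon
  refine ⟨∑ s ∈ P.support, q s, fun x => ?_, fun x y => ?_⟩
  · rw [QuadraticMap.sum_apply]
    conv_rhs => rw [P.as_sum, map_sum]
    exact Finset.sum_congr rfl fun s hs => hq s hs x
  · have : polar (∑ s ∈ P.support, q s : QuadraticForm K (Fin N → K)) x y = ∑ s ∈ P.support, polar (q s) x y := by
      simp only [QuadraticMap.polar, QuadraticMap.sum_apply, Finset.sum_sub_distrib]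
    rw [this, Finset.sum_congr rfl fun s hs => hq' s hs x y, Finset.sum_comm]
    refine Finset.sum_congr rfl fun i _ => ?_
    conv_rhs => rw [P.as_sum]
    rw [map_sum, map_sum, Finset.mul_sum]

/-- Euler for degree two, through the polar. -/
theorem pderiv_eq_zero {P : MvPolynomial (Fin N) K} {q : QuadraticForm K (Fin N → K)}
    (hpol : ∀ x y, polar q x y = ∑ i, y i * eval x (pderiv i P)) {x : Fin N → K} (hx : q x = 0)
    {j : Fin N} (hj : x j = 1) (h : ∀ i, i ≠ j → eval x (pderiv i P) = 0) (i : Fin N) :
    eval x (pderiv i P) = 0 := by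
  by_cases hi : i = j
  · have := hpol x x
    rw [polar_self, hx, smul_zero, Finset.sum_eq_single j (fun b _ hb => by rw [h b hb, mul_zero])
      (fun h => (h (Finset.mem_univ _)).elim), hj, one_mul] at this
    rw [hi]; exact this.symm
  · exact h i hi

end Groth.Agent.Quadric29
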