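import Groth.Agent.Quadric29.Points
import Groth.Agent.Quadric29.Count

/-!
# Rational points of smooth quadrics over finite fields
-/

set_option autoImplicit false
set_option linter.style.haveILetI false
set_option backward.isDefEq.respectTransparency.types false
noncomputable section

universe u

open CategoryTheory CategoryTheory.Limits AlgebraicGeometry MvPolynomial TopologicalSpace RingHom
open Groth.Agent.LefPen24 Groth.Agent.Cubic5

namespace Groth.Agent.Quadric29

variable {K : Type u} [Field K] {n d : ℕ} (G : LefPen.Form n K d)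

theorem eval_eq_zero_of_factor (f : PPt K n) (g : Spec (CommRingCat.of K) ⟶ (LefPen.hypIdeal G).subscheme)
    (hg : g ≫ (LefPen.hypIdeal G).subschemeι = f.1) {j : Fin (n + 1)} {x : Fin (n + 1) → K}
    (hx : Coord f j x) : eval x G.1 = 0 := by
  obtain ⟨h, hx⟩ := hx
  rw [← val_comp f j h x hx, RingHom.comp_apply, toChart_apply]
  have hker : LefPen.dehom G j ∈ RingHom.ker ((LefPen.hypIdeal G).subschemeι.app (LefPen.chart n K j)).hom := by
    rw [Scheme.IdealSheafData.ker_subschemeι_app _ ⟨LefPen.chart n K j, LefPen24.isAffineOpen_chart j⟩,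
      ideal_hypIdeal_chart]
    exact Ideal.mem_span_singleton_self _
  have e : f.1.appLE (LefPen.chart n K j) ⊤ h =
      (LefPen.hypIdeal G).subschemeι.app (LefPen.chart n K j) ≫
        g.appLE _ ⊤ (show ⊤ ≤ g ⁻¹ᵁ ((LefPen.hypIdeal G).subschemeι ⁻¹ᵁ LefPen.chart n K j) by
          rw [← Scheme.Hom.comp_preimage, hg]; exact h) := by
    rw [← Scheme.Hom.appLE_eq_app, Scheme.Hom.appLE_comp_appLE]
    simp only [hg]
  show (Scheme.ΓSpecIso (CommRingCat.of K)).hom.hom ((f.1.appLE (LefPen.chart n K j) ⊤ h).hom _) = 0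
  rw [e, CommRingCat.comp_apply]
  exact (congrArg (fun z => (Scheme.ΓSpecIso (CommRingCat.of K)).hom.hom ((g.appLE _ ⊤ _).hom z))
    (RingHom.mem_ker.1 hker)).trans ((congrArg _ (map_zero _)).trans (map_zero _))

theorem exists_factor (f : PPt K n) {j : Fin (n + 1)} {x : Fin (n + 1) → K} (hx : Coord f j x)
    (h0 : eval x G.1 = 0) :
    ∃ g : Spec (CommRingCat.of K) ⟶ (LefPen.hypIdeal G).subscheme,
      g ≫ (LefPen.hypIdeal G).subschemeι = f.1 := by
  obtain ⟨h, hx⟩ := hx
  let ι := (LefPen.hypIdeal G).subschemeι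
  have hU := LefPen24.isAffineOpen_chart (r := n) (k := K) j
  have hV : IsAffineOpen (ι ⁻¹ᵁ LefPen.chart n K j) := hU.preimage ι
  have hs : Function.Surjective (ι.app (LefPen.chart n K j)).hom := ι.app_surjective _ hU
  let Φ := (f.1.appLE (LefPen.chart n K j) ⊤ h).hom
  have hv : val f j h (LefPen.dehom G j) = 0 := by
    rw [← toChart_apply, ← RingHom.comp_apply, val_comp f j h x hx, h0]
  have hle : RingHom.ker (ι.app (LefPen.chart n K j)).hom ≤ RingHom.ker Φ := by
    rw [Scheme.IdealSheafData.ker_subschemeι_app _ ⟨LefPen.chart n K j, LefPen24.isAffineOpen_chart j⟩,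
      ideal_hypIdeal_chart, Ideal.span_le, Set.singleton_subset_iff, SetLike.mem_coe, RingHom.mem_ker]
    exact (map_eq_zero_iff _ (Scheme.ΓSpecIso (CommRingCat.of K)).commRingCatIsoToRingEquiv.injective).1 hv
  let Ψ := RingHom.liftOfSurjective _ hs ⟨Φ, hle⟩
  have hΨ : ι.app (LefPen.chart n K j) ≫ CommRingCat.ofHom Ψ = f.1.appLE (LefPen.chart n K j) ⊤ h :=
    CommRingCat.hom_ext (RingHom.ext fun a => RingHom.liftOfRightInverse_comp_apply _ _ (Function.rightInverse_surjInv hs) ⟨Φ, hle⟩ a)
  have hT := isAffineOpen_top (Spec (CommRingCat.of K))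
  haveI : IsIso hT.fromSpec := by rw [IsAffineOpen.fromSpec_top]; infer_instance
  refine ⟨inv hT.fromSpec ≫ Spec.map (CommRingCat.ofHom Ψ) ≫ hV.fromSpec, ?_⟩
  rw [Category.assoc, Category.assoc, ← IsAffineOpen.SpecMap_appLE_fromSpec ι hU hV le_rfl,
    Scheme.Hom.appLE_eq_app, ← Category.assoc (Spec.map _), ← Spec.map_comp]
  refine (congrArg (fun w => inv hT.fromSpec ≫ Spec.map w ≫ hU.fromSpec) hΨ).trans ?_
  rw [IsAffineOpen.SpecMap_appLE_fromSpec f.1 hU hT h]
  exact IsIso.inv_hom_id_assoc _ _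

theorem card_zeros [Fintype K] (hd : d ≠ 0) :
    Nat.card {v : Fin (n + 1) → K // eval v G.1 = 0} =
      SgaExt.pointCount ((LefPen.hypIdeal G).subschemeι ≫ CohB1.ProjSpace.toSpec n K) K * (Fintype.card K - 1) + 1 := by
  classical
  let P := {g : Spec (CommRingCat.of K) ⟶ (LefPen.hypIdeal G).subscheme //
    g ≫ (LefPen.hypIdeal G).subschemeι ≫ CohB1.ProjSpace.toSpec n K =
      Spec.map (CommRingCat.ofHom (algebraMap K K))}
  have hid : Spec.map (CommRingCat.ofHom (algebraMap K K)) = 𝟙 (Spec (CommRingCat.of K)) := Spec.map_id _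
  let toP : P → PPt K n := fun g => ⟨g.1 ≫ (LefPen.hypIdeal G).subschemeι, by
    rw [Category.assoc]; exact g.2.trans hid⟩
  have hsmul : ∀ (c : K) (x : Fin (n + 1) → K), eval (c • x) G.1 = c ^ d * eval x G.1 := fun c x => by
    rw [show c • x = fun l => x l * c from funext fun l => mul_comm c (x l)]
    exact eval₂_mul_of_isHomogeneous _ _ _ G.2
  let Φ : P × Kˣ → {v : {v : Fin (n + 1) → K // eval v G.1 = 0} // v.1 ≠ 0} := fun p =>
    ⟨⟨(coneMap (toP p.1, p.2)).1, by
      show eval ((p.2 : K) • (exists_coord (toP p.1)).choose_spec.choose) G.1 = 0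
      rw [hsmul, eval_eq_zero_of_factor G (toP p.1) p.1.1 rfl (exists_coord (toP p.1)).choose_spec.choose_spec,
        mul_zero]⟩, (coneMap (toP p.1, p.2)).2⟩
  have hΦ : Function.Bijective Φ := by
    constructor
    · intro p p' h
      have h' := coneMap_bijective.1 (Subtype.ext (congrArg (fun z => z.1.1) h) :
        coneMap (toP p.1, p.2) = coneMap (toP p'.1, p'.2))
      rw [Prod.ext_iff] at h'
      exact Prod.ext (Subtype.ext ((cancel_mono (LefPen.hypIdeal G).subschemeι).1 (congrArg Subtype.val h'.1))) h'.2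
    · rintro ⟨⟨v, hv⟩, hv0⟩
      obtain ⟨⟨f, c⟩, hfc⟩ := coneMap_bijective.2 ⟨v, hv0⟩
      have h0 : eval (exists_coord f).choose_spec.choose G.1 = 0 := by
        have h1 : eval ((c : K) • (exists_coord f).choose_spec.choose) G.1 = 0 := by
          rw [show (c : K) • (exists_coord f).choose_spec.choose = v from congrArg Subtype.val hfc, hv]
        rw [hsmul] at h1
        exact (mul_eq_zero.1 h1).resolve_left (pow_ne_zero _ c.ne_zero)
      obtain ⟨g, hg⟩ := exists_factor G f (exists_coord f).choose_spec.choose_spec h0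
      refine ⟨(⟨g, ?_⟩, c), ?_⟩
      · rw [hid, ← Category.assoc, hg]; exact f.2
      · refine Subtype.ext (Subtype.ext ?_)
        show (coneMap (toP _, c)).1 = v
        rw [show toP ⟨g, _⟩ = f from Subtype.ext hg]
        exact congrArg Subtype.val hfc
  have hz : eval (0 : Fin (n + 1) → K) G.1 = 0 := by
    have := hsmul 0 0
    rwa [zero_smul, zero_pow hd, zero_mul] at this
  let Z := {v : Fin (n + 1) → K // eval v G.1 = 0}
  let _ : Fintype Z := Fintype.ofFinite _
  rw [← Nat.card_congr (Equiv.sumCompl fun v : Z => v.1 = 0), Nat.card_sum,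
    ← Nat.card_eq_of_bijective Φ hΦ, Nat.card_prod, Nat.card_eq_fintype_card (α := Kˣ), Fintype.card_units,
    (Nat.card_eq_one_iff_unique.2 ⟨⟨fun a b => Subtype.ext (Subtype.ext (a.2.trans b.2.symm))⟩, ⟨⟨⟨0, hz⟩, rfl⟩⟩⟩ :
      Nat.card {v : Z // v.1 = 0} = 1), add_comm]
  rfl

theorem relDim_unique {X : Scheme.{u}} (f : X ⟶ Spec (CommRingCat.of K)) [Nonempty X] {a b : ℕ}
    [ha : SmoothOfRelativeDimension a f] [hb : SmoothOfRelativeDimension b f] : a = b := by
  obtain ⟨x⟩ := ‹Nonempty X›
  obtain ⟨V, hV, hxV, -⟩ := exists_isAffineOpen_mem_and_subset (x := x) (U := ⊤) trivial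
  have h1 := HasRingHomProperty.appLE (P := @SmoothOfRelativeDimension a) f ha
    ⟨⊤, isAffineOpen_top (Spec (CommRingCat.of K))⟩ ⟨V, hV⟩ le_top
  have h2 := HasRingHomProperty.appLE (P := @SmoothOfRelativeDimension b) f hb
    ⟨⊤, isAffineOpen_top (Spec (CommRingCat.of K))⟩ ⟨V, hV⟩ le_top
  obtain ⟨s, hs, hs'⟩ := h1
  obtain ⟨t, ht, ht'⟩ := h2
  let φ := (f.appLE ⊤ V le_top).hom
  let A := Γ(X, V)
  let q : Ideal A := (hV.primeIdealOf ⟨x, hxV⟩).asIdeal
  obtain ⟨s₀, hs₀, hs₀q⟩ : ∃ s₀ ∈ s, s₀ ∉ q := by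
    by_contra h
    push Not at h
    exact Ideal.IsPrime.ne_top inferInstance (top_le_iff.1 (hs ▸ Ideal.span_le.2 h))
  obtain ⟨t₀, ht₀, ht₀q⟩ : ∃ t₀ ∈ t, t₀ ∉ q := by
    by_contra h
    push Not at h
    exact Ideal.IsPrime.ne_top inferInstance (top_le_iff.1 (ht ▸ Ideal.span_le.2 h))
  let L := Localization.Away (s₀ * t₀)
  haveI : Nontrivial L := not_subsingleton_iff_nontrivial.1 fun h => by
    obtain ⟨k, hk⟩ := (IsLocalization.subsingleton_iff (M := Submonoid.powers (s₀ * t₀)) (S := L)).1 h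
    exact (Ideal.IsPrime.mem_or_mem inferInstance ((Ideal.IsPrime.mem_of_pow_mem inferInstance k
      (show (s₀ * t₀) ^ k ∈ q by rw [show (s₀ * t₀) ^ k = 0 from hk]; exact q.zero_mem)))).elim hs₀q ht₀q
  have key : ∀ (m : ℕ) (r r' : A), s₀ * t₀ = r * r' →
      RingHom.IsStandardSmoothOfRelativeDimension m ((algebraMap A (Localization.Away r)).comp φ) →
      RingHom.IsStandardSmoothOfRelativeDimension m ((algebraMap A L).comp φ) := by
    intro m r r' hr h
    have hu : IsUnit (algebraMap A L r) := isUnit_of_mul_isUnit_left (y := algebraMap A L r') (by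
      rw [← map_mul, ← hr]; exact IsLocalization.Away.algebraMap_isUnit _)
    letI := (IsLocalization.Away.lift (S := Localization.Away r) r hu).toAlgebra
    haveI : IsScalarTower A (Localization.Away r) L :=
      IsScalarTower.of_algebraMap_eq fun z => (IsLocalization.Away.lift_eq r hu z).symm
    haveI : IsLocalization.Away (r * r') L := by rw [← hr]; infer_instance
    let L' := Localization.Away (algebraMap A (Localization.Away r) r')
    haveI : IsLocalization.Away (r * r') L' := IsLocalization.Away.mul' (Localization.Away r) L' r r'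
    let e : L' ≃ₐ[A] L := IsLocalization.algEquiv (Submonoid.powers (r * r')) L' L
    have he : (e : L' →+* L).comp (algebraMap (Localization.Away r) L') = algebraMap (Localization.Away r) L :=
      IsLocalization.ringHom_ext (Submonoid.powers r) (RingHom.ext fun z => by
        rw [RingHom.comp_apply, RingHom.comp_apply, RingHom.comp_apply, ← IsScalarTower.algebraMap_apply,
          ← IsScalarTower.algebraMap_apply]
        exact e.commutes z)
    haveI : IsLocalization.Away (algebraMap A (Localization.Away r) r') L :=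
      IsLocalization.isLocalization_of_algEquiv (Submonoid.powers (algebraMap A (Localization.Away r) r'))
        (AlgEquiv.ofRingEquiv (f := e.toRingEquiv) (fun z => RingHom.congr_fun he z) : L' ≃ₐ[Localization.Away r] L)
    have h0 : RingHom.IsStandardSmoothOfRelativeDimension 0 (algebraMap (Localization.Away r) L) :=
      RingHom.IsStandardSmoothOfRelativeDimension.algebraMap_isLocalizationAway (algebraMap A (Localization.Away r) r')
    have := RingHom.IsStandardSmoothOfRelativeDimension.comp h0 h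
    rwa [← RingHom.comp_assoc, ← IsScalarTower.algebraMap_eq, zero_add] at this
  have k1 := key a s₀ t₀ rfl (hs' s₀ hs₀)
  have k2 := key b t₀ s₀ (mul_comm _ _) (ht' t₀ ht₀)
  letI := ((algebraMap A L).comp φ).toAlgebra
  haveI : Algebra.IsStandardSmoothOfRelativeDimension a Γ(Spec (CommRingCat.of K), ⊤) L := k1
  haveI : Algebra.IsStandardSmoothOfRelativeDimension b Γ(Spec (CommRingCat.of K), ⊤) L := k2
  haveI : Algebra.IsStandardSmooth Γ(Spec (CommRingCat.of K), ⊤) L :=
    Algebra.IsStandardSmoothOfRelativeDimension.isStandardSmooth a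
  have r1 := Algebra.IsStandardSmoothOfRelativeDimension.rank_kaehlerDifferential
    (R := Γ(Spec (CommRingCat.of K), ⊤)) (S := L) a
  have r2 := Algebra.IsStandardSmoothOfRelativeDimension.rank_kaehlerDifferential
    (R := Γ(Spec (CommRingCat.of K), ⊤)) (S := L) b
  exact_mod_cast r1.symm.trans r2

theorem ne_zero_of_smoothOfRelativeDimension (Q : LefPen.Form (n + 1) K d)
    [h : SmoothOfRelativeDimension n ((LefPen.hypIdeal Q).subschemeι ≫ CohB1.ProjSpace.toSpec (n + 1) K)] :
    Q.1 ≠ 0 := by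
  intro hQ
  have hbot : LefPen.hypIdeal Q = ⊥ := by
    refine Scheme.IdealSheafData.ext_of_iSup_eq_top
      (fun j => (⟨LefPen.chart (n + 1) K j, LefPen24.isAffineOpen_chart j⟩ :
        (CohB1.ProjSpace (n + 1) K).affineOpens)) (ProjLib.iSup_basicOpen_X (n + 1) K) fun j => ?_
    rw [ideal_hypIdeal_chart, ← toChart_apply, hQ, map_zero, Ideal.span_singleton_zero]
    rfl
  haveI : IsIso (LefPen.hypIdeal Q).subschemeι := hbot ▸ inferInstance
  haveI : SmoothOfRelativeDimension n (CohB1.ProjSpace.toSpec (n + 1) K) :=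
    (MorphismProperty.cancel_left_of_respectsIso (P := @SmoothOfRelativeDimension n)
      (LefPen.hypIdeal Q).subschemeι (CohB1.ProjSpace.toSpec (n + 1) K)).1 h
  haveI := PnCanon5.smoothOfRelativeDimension_toSpec (n + 1) K
  obtain ⟨f, -⟩ := exists_of_coord (K := K) (n := n + 1) 0 (fun _ => 1) rfl
  haveI : Nonempty (CohB1.ProjSpace (n + 1) K) := ⟨f.1 (IsLocalRing.closedPoint K)⟩
  have := relDim_unique (CohB1.ProjSpace.toSpec (n + 1) K) (a := n) (b := n + 1)
  omega

end Groth.Agent.Quadric29
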