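import Groth.Agent.Quadric29.Smooth
import Groth.Agent.EmbLib24.Criterion
import Groth.Prelude.Def_SgaExt

/-!
# Counting rational points of a hypersurface
-/

set_option autoImplicit false
set_option linter.style.haveILetI false
set_option backward.isDefEq.respectTransparency.types false
noncomputable section

universe u

open CategoryTheory CategoryTheory.Limits AlgebraicGeometry MvPolynomial TopologicalSpace
open Groth.Agent.LefPen24 Groth.Agent.Cubic5 Groth.Agent.Coherent Groth.Agent.AmpleLib Groth.Agent.PicLib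

namespace Groth.Agent.Quadric29

variable {K : Type u} [Field K] {n d : ℕ}

/-- Rational sections of `P^n`. -/
abbrev PPt (K : Type u) [Field K] (n : ℕ) :=
  {f : Spec (CommRingCat.of K) ⟶ CohB1.ProjSpace n K // f ≫ CohB1.ProjSpace.toSpec n K = 𝟙 _}

/-- The value of the functions on a chart at a rational point of it. -/
def val (f : PPt K n) (j : Fin (n + 1)) (h : ⊤ ≤ f.1 ⁻¹ᵁ LefPen.chart n K j) :
    Γ(CohB1.ProjSpace n K, LefPen.chart n K j) →+* K :=
  (Scheme.ΓSpecIso (CommRingCat.of K)).hom.hom.comp (f.1.appLE (LefPen.chart n K j) ⊤ h).hom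

/-- `X_l` as a form of degree one. -/
def coordForm (l : Fin (n + 1)) : LefPen.Form n K 1 := ⟨X l, LefPen.X_mem n K l⟩

/-- `x` are the coordinates of `f` normalised at `j`. -/
def Coord (f : PPt K n) (j : Fin (n + 1)) (x : Fin (n + 1) → K) : Prop :=
  ∃ h : ⊤ ≤ f.1 ⁻¹ᵁ LefPen.chart n K j, ∀ l, val f j h (toChart j (X l)) = x l

theorem val_C (f : PPt K n) (j : Fin (n + 1)) (h : ⊤ ≤ f.1 ⁻¹ᵁ LefPen.chart n K j) (a : K) :
    val f j h (toChart j (C a)) = a := by
  rw [toChart_C]
  show (Scheme.ΓSpecIso (CommRingCat.of K)).hom.hom ((f.1.appLE (LefPen.chart n K j) ⊤ h).hom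
    (((CohB1.ProjSpace.toSpec n K).appLE ⊤ (LefPen.chart n K j) le_top).hom _)) = a
  have e : (CohB1.ProjSpace.toSpec n K).appLE ⊤ (LefPen.chart n K j) le_top ≫
      f.1.appLE (LefPen.chart n K j) ⊤ h = 𝟙 _ := by
    rw [Scheme.Hom.appLE_comp_appLE]
    have : f.1 ≫ CohB1.ProjSpace.toSpec n K = 𝟙 _ := f.2
    simp only [this]
    rw [Scheme.Hom.appLE, Scheme.Hom.id_app]
    exact (Category.id_comp _).trans ((Spec (CommRingCat.of K)).presheaf.map_id _)
  refine (congrArg (Scheme.ΓSpecIso (CommRingCat.of K)).hom.hom (ConcreteCategory.congr_hom e _)).trans ?_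
  exact Iso.inv_hom_id_apply _ _

theorem val_comp (f : PPt K n) (j : Fin (n + 1)) (h : ⊤ ≤ f.1 ⁻¹ᵁ LefPen.chart n K j) (x : Fin (n + 1) → K)
    (hx : ∀ l, val f j h (toChart j (X l)) = x l) : (val f j h).comp (toChart j) = eval x := by
  refine MvPolynomial.ringHom_ext (fun a => ?_) fun l => ?_
  · rw [RingHom.comp_apply, val_C, eval_C]
  · rw [RingHom.comp_apply, hx, eval_X]

theorem coord_self {f : PPt K n} {j : Fin (n + 1)} {x : Fin (n + 1) → K} (h : Coord f j x) : x j = 1 := by
  obtain ⟨h, hx⟩ := h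
  rw [← hx j]
  have : (X j - 1 : MvPolynomial (Fin (n + 1)) K) ∈ RingHom.ker (toChart j) := by
    rw [ker_toChart]; exact Ideal.mem_span_singleton_self _
  rw [RingHom.mem_ker, map_sub, map_one, sub_eq_zero] at this
  rw [this, map_one]

theorem coord_ext {f g : PPt K n} {j : Fin (n + 1)} {x : Fin (n + 1) → K} (hf : Coord f j x) (hg : Coord g j x) :
    f = g := by
  obtain ⟨hf, hfx⟩ := hf
  obtain ⟨hg, hgx⟩ := hg
  have e : val f j hf = val g j hg := by
    refine RingHom.ext fun a => ?_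
    obtain ⟨p, rfl⟩ := toChart_surjective j a
    exact RingHom.congr_fun ((val_comp f j hf x hfx).trans (val_comp g j hg x hgx).symm) p
  have e' : f.1.appLE (LefPen.chart n K j) ⊤ hf = g.1.appLE (LefPen.chart n K j) ⊤ hg :=
    (cancel_mono (Scheme.ΓSpecIso (CommRingCat.of K)).hom).1 (CommRingCat.hom_ext e)
  have key : ∀ (w : PPt K n) (hw : ⊤ ≤ w.1 ⁻¹ᵁ LefPen.chart n K j),
      (isAffineOpen_top (Spec (CommRingCat.of K))).fromSpec ≫ w.1 =
        Spec.map (w.1.appLE (LefPen.chart n K j) ⊤ hw) ≫ (LefPen24.isAffineOpen_chart j).fromSpec :=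
    fun w hw => (IsAffineOpen.SpecMap_appLE_fromSpec w.1 (LefPen24.isAffineOpen_chart j) _ hw).symm
  refine Subtype.ext ((cancel_epi (isAffineOpen_top (Spec (CommRingCat.of K))).fromSpec).1 ?_)
  rw [key f hf, key g hg, e']

theorem exists_coord (f : PPt K n) : ∃ j x, Coord f j x := by
  let p : Spec (CommRingCat.of K) := (⊥ : PrimeSpectrum K)
  obtain ⟨j, hj⟩ := Opens.mem_iSup.1 ((ProjLib.iSup_basicOpen_X n K).ge (Set.mem_univ (f.1 p)))
  have hW : (⊤ : (Spec (CommRingCat.of K)).Opens) ≤ f.1 ⁻¹ᵁ LefPen.chart n K j := fun y _ => by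
    obtain rfl : y = p := @Subsingleton.elim (PrimeSpectrum K) _ y p
    exact hj
  exact ⟨j, fun l => val f j hW (toChart j (X l)), hW, fun _ => rfl⟩

theorem exists_of_coord (j : Fin (n + 1)) (x : Fin (n + 1) → K) (hx : x j = 1) :
    ∃ f : PPt K n, Coord f j x := by
  have hk : RingHom.ker (toChart j) ≤ RingHom.ker (eval x) := by
    rw [ker_toChart, Ideal.span_le, Set.singleton_subset_iff]
    simp [hx]
  let χ := RingHom.liftOfSurjective (toChart j) (toChart_surjective j) ⟨eval x, hk⟩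
  have hχ : ∀ p, χ (toChart j p) = eval x p :=
    fun p => RingHom.liftOfRightInverse_comp_apply (toChart j) _ _ ⟨eval x, hk⟩ p
  let hV := LefPen24.isAffineOpen_chart (r := n) (k := K) j
  let f₀ : Spec (CommRingCat.of K) ⟶ CohB1.ProjSpace n K := Spec.map (CommRingCat.ofHom χ) ≫ hV.fromSpec
  have hf : f₀ ≫ CohB1.ProjSpace.toSpec n K = 𝟙 _ := by
    rw [Category.assoc, ← IsAffineOpen.SpecMap_appLE_fromSpec (CohB1.ProjSpace.toSpec n K)
      (isAffineOpen_top (Spec (CommRingCat.of K))) hV le_top, ← Category.assoc, ← Spec.map_comp]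
    rw [IsAffineOpen.fromSpec_top, Scheme.isoSpec_Spec_inv, ← Spec.map_comp, ← Spec.map_id]
    congr 1
    refine CommRingCat.hom_ext (RingHom.ext fun a => ?_)
    refine (congrArg χ (toChart_C j a).symm).trans ?_
    exact (hχ (C a)).trans (eval_C a)
  have hW : (⊤ : (Spec (CommRingCat.of K)).Opens) ≤ f₀ ⁻¹ᵁ LefPen.chart n K j := fun y _ => by
    have : hV.fromSpec ((Spec.map (CommRingCat.ofHom χ)) y) ∈ Set.range hV.fromSpec := ⟨_, rfl⟩
    rw [hV.range_fromSpec] at this
    exact this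
  refine ⟨⟨f₀, hf⟩, hW, fun l => ?_⟩
  rw [← eval_X (f := x) l, ← hχ]
  have : val (⟨f₀, hf⟩ : PPt K n) j hW = χ := by
    refine RingHom.ext fun a => ?_
    show (Scheme.ΓSpecIso (CommRingCat.of K)).hom.hom
      ((f₀.appLE (LefPen.chart n K j) ⊤ hW).hom a) = χ a
    have e : f₀.appLE (LefPen.chart n K j) ⊤ hW =
        CommRingCat.ofHom χ ≫ (Scheme.ΓSpecIso (CommRingCat.of K)).inv := by
      refine Spec.map_injective ((cancel_mono hV.fromSpec).1 ?_)
      rw [IsAffineOpen.SpecMap_appLE_fromSpec _ hV (isAffineOpen_top _) hW, Spec.map_comp, Category.assoc,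
        IsAffineOpen.fromSpec_top, Scheme.isoSpec_Spec_inv]
    rw [e]
    exact Iso.inv_hom_id_apply (Scheme.ΓSpecIso (CommRingCat.of K)) (χ a)
  rw [this]

theorem notMem_basicOpen {j l : Fin (n + 1)} {p : CohB1.ProjSpace n K} (hp : p ∉ LefPen.chart n K l) :
    p ∉ (CohB1.ProjSpace n K).basicOpen (LefPen.dehom (coordForm l) j) := by
  intro hm
  let W := (CohB1.ProjSpace n K).basicOpen (LefPen.dehom (coordForm (K := K) l) j)
  have hWj : W ≤ LefPen.chart n K j := (CohB1.ProjSpace n K).basicOpen_le _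
  have hu : IsUnit (PicLib.res hWj (LefPen.dehom (coordForm (K := K) l) j)) :=
    RingedSpace.isUnit_res_basicOpen _ _
  obtain ⟨b, hb⟩ := hu.exists_right_inv
  have h := congrArg (fun s => secVal s ⟨p, hm⟩) hb
  simp only at h
  rw [secVal_mul, secVal_res, secVal_dehom] at h
  have h1 : IsUnit (Localization.mk (coordForm (K := K) l).1
      ⟨MvPolynomial.X j ^ 1, X_pow_notMem (x := p) (hWj hm) 1⟩ : Twist.Loc (CohB1.polyGrading n K) p) :=
    IsUnit.of_mul_eq_one _ (h.trans HomogeneousLocalization.val_one)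
  rw [Localization.mk_eq_mk'] at h1
  have h2 : (X l : MvPolynomial (Fin (n + 1)) K) ∈ p.asHomogeneousIdeal.toIdeal.primeCompl :=
    (IsLocalization.AtPrime.isUnit_mk'_iff _ p.asHomogeneousIdeal.toIdeal _ _).1 h1
  exact hp ((Proj.mem_basicOpen _ _ _).2 h2)

theorem le_chart_of_ne_zero {f : PPt K n} {j : Fin (n + 1)} {x : Fin (n + 1) → K} (hf : Coord f j x)
    {l : Fin (n + 1)} (hl : x l ≠ 0) : ⊤ ≤ f.1 ⁻¹ᵁ LefPen.chart n K l := by
  obtain ⟨h, hx⟩ := hf
  intro y _
  by_contra hy
  refine notMem_basicOpen (j := j) (l := l) hy ?_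
  show y ∈ f.1 ⁻¹ᵁ (CohB1.ProjSpace n K).basicOpen (LefPen.dehom (coordForm (K := K) l) j)
  rw [Scheme.Hom.preimage_basicOpen]
  have hu : IsUnit ((f.1.appLE (LefPen.chart n K j) ⊤ h).hom (LefPen.dehom (coordForm (K := K) l) j)) := by
    rw [← toChart_apply]
    have h1 : IsUnit (val f j h (toChart j (X l))) := by rw [hx l]; exact isUnit_iff_ne_zero.2 hl
    exact (isUnit_map_iff (Scheme.ΓSpecIso (CommRingCat.of K)).commRingCatIsoToRingEquiv _).1 h1
  rw [Scheme.Hom.appLE, CommRingCat.comp_apply] at hu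
  have h2 := (Spec (CommRingCat.of K)).basicOpen_of_isUnit hu
  have h3 : y ∈ (⊤ : (Spec (CommRingCat.of K)).Opens) := trivial
  rw [← h2, Scheme.basicOpen_res] at h3
  exact h3.2

theorem coord_mul {f : PPt K n} {i l : Fin (n + 1)} {x y : Fin (n + 1) → K} (hx : Coord f i x)
    (hy : Coord f l y) (m : Fin (n + 1)) : x m = x l * y m := by
  obtain ⟨hi, hx⟩ := hx
  obtain ⟨hl, hy⟩ := hy
  have h := PnCanon5.res_coordFun_eq n K i l m
  have h' : ⊤ ≤ f.1 ⁻¹ᵁ (LefPen.chart n K i ⊓ LefPen.chart n K l) := fun z hz => ⟨hi hz, hl hz⟩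
  have e := congrArg (fun s => (Scheme.ΓSpecIso (CommRingCat.of K)).hom.hom
    ((f.1.appLE _ ⊤ h').hom s)) h
  simp only [map_mul] at e
  have r : ∀ (c : Fin (n + 1)) (hc : ⊤ ≤ f.1 ⁻¹ᵁ LefPen.chart n K c)
      (hle : LefPen.chart n K i ⊓ LefPen.chart n K l ≤ LefPen.chart n K c) (w : Fin (n + 1)),
      (Scheme.ΓSpecIso (CommRingCat.of K)).hom.hom ((f.1.appLE _ ⊤ h').hom
        ((CohB1.ProjSpace n K).presheaf.map (homOfLE hle).op (EmbLib24.coordFun n K c w))) =
      val f c hc (toChart c (X w)) := by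
    intro c hc hle w
    rw [show toChart c (X w) = EmbLib24.coordFun n K c w from toChart_apply (coordForm w) c]
    show _ = (Scheme.ΓSpecIso (CommRingCat.of K)).hom.hom ((f.1.appLE (LefPen.chart n K c) ⊤ hc).hom _)
    exact congrArg _ (ConcreteCategory.congr_hom (Scheme.Hom.map_appLE f.1 h' (homOfLE hle).op) _)
  rw [r i hi inf_le_left m, r i hi inf_le_left l, r l hl inf_le_right m, hx m, hx l, hy m] at e
  exact e

/-- Cone over the rational points. -/
def coneMap (p : PPt K n × Kˣ) : {x : Fin (n + 1) → K // x ≠ 0} :=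
  ⟨(p.2 : K) • (exists_coord p.1).choose_spec.choose, fun h => by
    have := congrFun h (exists_coord p.1).choose
    rw [Pi.smul_apply, coord_self (exists_coord p.1).choose_spec.choose_spec, smul_eq_mul, mul_one] at this
    exact p.2.ne_zero this⟩

theorem coneMap_bijective : Function.Bijective (coneMap (K := K) (n := n)) := by
  constructor
  · rintro ⟨f, c⟩ ⟨g, d⟩ h
    have hxy := congrArg Subtype.val h
    let i := (exists_coord f).choose
    let x := (exists_coord f).choose_spec.choose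
    have hx : Coord f i x := (exists_coord f).choose_spec.choose_spec
    let l := (exists_coord g).choose
    let y := (exists_coord g).choose_spec.choose
    have hy : Coord g l y := (exists_coord g).choose_spec.choose_spec
    have e : ∀ m, (c : K) * x m = (d : K) * y m := fun m => congrFun hxy m
    have hcd : (c : K) = d * y i := by
      have := e i
      rwa [coord_self hx, mul_one] at this
    have hyi : y i ≠ 0 := fun h0 => c.ne_zero (by rw [hcd, h0, mul_zero])
    obtain ⟨z, hz⟩ : ∃ z, Coord g i z := ⟨_, le_chart_of_ne_zero hy hyi, fun _ => rfl⟩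
    have hzx : z = x := funext fun m => by
      have h1 := coord_mul hy hz m
      have h2 := e m
      rw [hcd, h1, mul_assoc] at h2
      exact (mul_left_cancel₀ hyi (mul_left_cancel₀ d.ne_zero h2)).symm
    obtain rfl : f = g := coord_ext hx (hzx ▸ hz)
    refine Prod.ext rfl (Units.ext ?_)
    have : (exists_coord f).choose = l := rfl
    rw [hcd, show i = l from rfl, coord_self hy, mul_one]
  · rintro ⟨v, hv⟩
    obtain ⟨j, hj⟩ := Function.ne_iff.1 hv
    obtain ⟨f, hf⟩ := exists_of_coord j (fun m => v m / v j) (div_self hj)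
    let l := (exists_coord f).choose
    let y := (exists_coord f).choose_spec.choose
    have hy : Coord f l y := (exists_coord f).choose_spec.choose_spec
    have h1 := coord_mul hf hy
    have hl : v l / v j ≠ 0 := fun h0 => by
      have := h1 j
      rw [h0, zero_mul, div_self hj] at this
      exact one_ne_zero this
    have hvl : v l ≠ 0 := fun h0 => hl (by rw [h0, zero_div])
    refine ⟨(f, Units.mk0 (v l) hvl), Subtype.ext (funext fun m => ?_)⟩
    show v l * y m = v m
    have := h1 m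
    rw [div_mul_eq_mul_div, div_left_inj' hj] at this
    exact this.symm

end Groth.Agent.Quadric29
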