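import Groth.Agent.Cubic5.Points
import Groth.Agent.Quadric29.Form
import Groth.Agent.PnCanon5.Chart
import Mathlib.RingTheory.RingHom.StandardSmooth
import Mathlib.RingTheory.Smooth.StandardSmoothCotangent
import Mathlib.RingTheory.Polynomial.UniqueFactorization

/-!
# A rational point of a smooth hypersurface has non-zero gradient
-/

set_option autoImplicit false
set_option linter.style.haveILetI false
set_option backward.isDefEq.respectTransparency.types false
noncomputable section

universe u

open CategoryTheory CategoryTheory.Limits AlgebraicGeometry MvPolynomial TopologicalSpace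
open Groth.Agent.LefPen24 Groth.Agent.Cubic5

namespace Groth.Agent.Quadric29

variable {K : Type u} [Field K] {n d : ℕ}

/-- The chart rings of a smooth hypersurface are smooth. -/
theorem smooth_chartRing (G : LefPen.Form n K d)
    [Smooth ((LefPen.hypIdeal G).subschemeι ≫ CohB1.ProjSpace.toSpec n K)] (j : Fin (n + 1)) :
    Algebra.Smooth K (MvPolynomial (Fin (n + 1)) K ⧸ chartIdeal G.1 j) := by
  let ι := (LefPen.hypIdeal G).subschemeι
  let A := MvPolynomial (Fin (n + 1)) K ⧸ chartIdeal G.1 j
  let V : (LefPen.hypIdeal G).subscheme.Opens := ι ⁻¹ᵁ LefPen.chart n K j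
  have hV : IsAffineOpen V := (LefPen24.isAffineOpen_chart j).preimage ι
  let ψ : MvPolynomial (Fin (n + 1)) K →+* Γ((LefPen.hypIdeal G).subscheme, V) :=
    (ι.app (LefPen.chart n K j)).hom.comp (toChart j)
  have hψs : Function.Surjective ψ :=
    (ι.app_surjective _ (LefPen24.isAffineOpen_chart j)).comp (toChart_surjective j)
  have hψk : RingHom.ker ψ = chartIdeal G.1 j := by
    rw [← RingHom.comap_ker, Scheme.IdealSheafData.ker_subschemeι_app _
      ⟨LefPen.chart n K j, LefPen24.isAffineOpen_chart j⟩, comap_toChart]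
  let e : A ≃+* Γ((LefPen.hypIdeal G).subscheme, V) :=
    (Ideal.quotEquivOfEq hψk.symm).trans (RingHom.quotientKerEquivOfSurjective hψs)
  have h := HasRingHomProperty.appLE (P := @Smooth) (ι ≫ CohB1.ProjSpace.toSpec n K) inferInstance
    ⟨⊤, isAffineOpen_top (Spec (CommRingCat.of K))⟩ ⟨V, hV⟩ le_top
  let γ := (Scheme.ΓSpecIso (CommRingCat.of K)).commRingCatIsoToRingEquiv.symm
  have h' := RingHom.Smooth.respectsIso.1 _ e.symm
    (RingHom.Smooth.respectsIso.2 _ γ h)
  refine RingHom.smooth_algebraMap.1 ?_
  refine (congrArg RingHom.Smooth (RingHom.ext fun a => ?_)).mpr h'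
  show algebraMap K A a = e.symm _
  rw [eq_comm, RingEquiv.symm_apply_eq]
  show _ = (ι.app (LefPen.chart n K j)).hom (toChart j (C a))
  rw [toChart_C, Scheme.Hom.appLE, Scheme.Hom.comp_app]
  show _ = (ι.app (LefPen.chart n K j)).hom (((CohB1.ProjSpace.toSpec n K).appLE ⊤ (LefPen.chart n K j) le_top).hom _)
  rw [Scheme.Hom.appLE]
  simp only [CommRingCat.comp_apply]
  exact (ConcreteCategory.congr_hom (ι.naturality (homOfLE le_top).op) _).symm

theorem derivation_apply {σ : Type} [Fintype σ] (D : Derivation K (MvPolynomial σ K) (MvPolynomial σ K))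
    (G : MvPolynomial σ K) : D G = ∑ i, pderiv i G * D (X i) := by
  classical
  have h : D = ∑ i, D (X i) • (pderiv i : Derivation K (MvPolynomial σ K) (MvPolynomial σ K)) := by
    refine MvPolynomial.derivation_ext fun l => ?_
    rw [← Derivation.coeFnAddMonoidHom_apply (∑ i, _), map_sum, Finset.sum_apply]
    simp [pderiv_X, Pi.single_apply]
  conv_lhs => rw [h, ← Derivation.coeFnAddMonoidHom_apply (∑ i, _), map_sum, Finset.sum_apply]
  exact Finset.sum_congr rfl fun i _ => by simp [mul_comm]

theorem isDomain_chartRing (j : Fin (n + 1)) : IsDomain Γ(CohB1.ProjSpace n K, LefPen.chart n K j) := by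
  let L := Localization.Away (X j : MvPolynomial (Fin (n + 1)) K)
  haveI : IsDomain L := IsLocalization.isDomain_localization
    (powers_le_nonZeroDivisors_of_noZeroDivisors (MvPolynomial.X_ne_zero j))
  haveI : IsDomain (HomogeneousLocalization.Away (CohB1.polyGrading n K) (X j)) :=
    Function.Injective.isDomain (algebraMap _ L) (HomogeneousLocalization.val_injective _)
  exact ((Proj.basicOpenIsoAway (CohB1.polyGrading n K) (X j)
    (LefPen.X_mem n K j) one_pos).commRingCatIsoToRingEquiv.symm).toMulEquiv.isDomain _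

/-- `G / X_j^d` determines `G`. -/
theorem eq_zero_of_dehom (G : LefPen.Form n K d) (j : Fin (n + 1))
    (h : G.1 ∈ Ideal.span {(X j : MvPolynomial (Fin (n + 1)) K) - 1}) : G.1 = 0 := by
  rw [← ker_toChart j, RingHom.mem_ker] at h
  have h1 : ProjLib.dehom (GradedRingHom.id (CohB1.polyGrading n K)) (LefPen.X_mem n K j) G.1 = 0 :=
    (ConcreteCategory.bijective_of_isIso (Proj.basicOpenIsoAway (CohB1.polyGrading n K) (X j)
      (LefPen.X_mem n K j) one_pos).hom).1 (h.trans (map_zero _).symm)
  have h2 := congrArg HomogeneousLocalization.val h1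
  rw [ProjLib.dehom_val _ _ G.2, HomogeneousLocalization.val_zero] at h2
  obtain ⟨⟨_, m, rfl⟩, hm⟩ := (Localization.mk_eq_mk_iff.trans Localization.r_iff_exists).1
    (h2.trans (Localization.mk_zero 1).symm)
  simpa [MvPolynomial.X_ne_zero] using hm

/-- Jacobian criterion at a rational point. -/
theorem exists_pderiv_ne (G : LefPen.Form n K d) (hG : G.1 ≠ 0)
    [Smooth ((LefPen.hypIdeal G).subschemeι ≫ CohB1.ProjSpace.toSpec n K)]
    (j : Fin (n + 1)) (x : Fin (n + 1) → K) (hx : x j = 1) (h0 : eval x G.1 = 0)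
    (hall : ∀ i, eval x (pderiv i G.1) = 0) : False := by
  classical
  let P := MvPolynomial (Fin (n + 1)) K
  let C' := P ⧸ chartIdeal G.1 j
  haveI := smooth_chartRing G j
  let q : Ideal P := RingHom.ker (eval x)
  haveI hqp : q.IsPrime := RingHom.ker_isPrime _
  have hle : chartIdeal G.1 j ≤ q := by
    refine Ideal.span_le.2 ?_
    rintro p (rfl | rfl)
    · simp [q, hx]
    · exact h0
  let p : Ideal C' := q.map (Ideal.Quotient.mk _)
  haveI : p.IsPrime := Ideal.map_isPrime_of_surjective Ideal.Quotient.mk_surjective (by rwa [Ideal.mk_ker])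
  have hq : ∀ y, algebraMap P C' y ∈ p ↔ y ∈ q := fun y => by
    show Ideal.Quotient.mk _ y ∈ p ↔ _
    rw [← Ideal.mem_comap, Ideal.comap_map_of_surjective _ Ideal.Quotient.mk_surjective,
      ← RingHom.ker_eq_comap_bot, Ideal.mk_ker, sup_eq_left.2 hle]
  haveI : Algebra.FormallySmooth C' (Localization.AtPrime p) :=
    Algebra.FormallySmooth.of_isLocalization p.primeCompl
  haveI : Algebra.FormallySmooth K (Localization.AtPrime p) := Algebra.FormallySmooth.comp K C' _
  obtain ⟨m, f, D, hf, hspan, hdet⟩ := (EGA41Lib.SQL.formallySmooth_iff_exists_det (A := K) (B := P) (C := C')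
    Ideal.Quotient.mk_surjective p q hq (chartIdeal G.1 j) Ideal.mk_ker).1 inferInstance
  have key : ∀ l, ∃ a b, a * (X j - 1) + b * G.1 = f l := fun l => Ideal.mem_span_pair.1 (hf l)
  choose a b hab using key
  have hM : ∀ l c, eval x (D c (f l)) = eval x (a l) * eval x (D c (X j)) := fun l c => by
    rw [← hab l, map_add, Derivation.leibniz, Derivation.leibniz, map_sub, Derivation.map_one_eq_zero,
      derivation_apply (D c) G.1]
    simp [hx, h0, hall, map_sum]
  let P' := Localization.AtPrime q
  have hinj : Function.Injective (algebraMap P P') :=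
    IsLocalization.injective P' q.primeCompl_le_nonZeroDivisors
  have hXj : (X j - 1 : P) ≠ 0 := fun h => by
    simpa using congrArg (eval (0 : Fin (n + 1) → K)) h
  have hmem : ∀ g ∈ chartIdeal G.1 j, algebraMap P P' g ∈ Ideal.span (Set.range fun i => algebraMap P P' (f i)) :=
    fun g hg => hspan ▸ Ideal.mem_map_of_mem _ hg
  rcases m with _ | _ | m
  · have := hmem (X j - 1) (Ideal.subset_span (Set.mem_insert _ _))
    rw [Set.range_eq_empty, Ideal.span_empty, Ideal.mem_bot] at this
    exact hXj ((map_eq_zero_iff _ hinj).1 this)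
  · have ha : eval x (a 0) ≠ 0 := by
      intro h
      refine hdet ?_
      show eval x _ = 0
      rw [Matrix.det_fin_one, Matrix.of_apply, hM, h, zero_mul]
    have ex : ∀ g ∈ chartIdeal G.1 j, ∃ s c : P, eval x s ≠ 0 ∧ s * g = c * f 0 := by
      intro g hg
      have := hmem g hg
      have hr : (Set.range fun i : Fin (0 + 1) => algebraMap P P' (f i)) = {algebraMap P P' (f 0)} := by
        ext z; simp [Fin.exists_fin_one, eq_comm]
      rw [hr, Ideal.mem_span_singleton'] at this
      obtain ⟨y, hy⟩ := this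
      obtain ⟨⟨c, s⟩, hs⟩ := IsLocalization.surj q.primeCompl y
      refine ⟨s, c, s.2, hinj ?_⟩
      rw [map_mul, map_mul, ← hs, ← hy]
      ring
    obtain ⟨s, c, hs, hsc⟩ := ex (X j - 1) (Ideal.subset_span (Set.mem_insert _ _))
    obtain ⟨s', c', hs', hsc'⟩ := ex G.1 (Ideal.subset_span (Set.mem_insert_of_mem _ rfl))
    have hf0 : eval x (f 0) = 0 := hle (hf 0)
    have hc : eval x c ≠ 0 := by
      have h1 := congrArg (fun g => eval x (pderiv j g)) hsc
      intro hc
      simp [hx, hf0, hc] at h1
      exact hs h1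
    have hprime : Prime (X j - 1 : P) := by
      rw [← Ideal.span_singleton_prime hXj, ← ker_toChart j]
      haveI : IsDomain Γ(CohB1.ProjSpace n K, LefPen.chart n K j) := isDomain_chartRing j
      exact RingHom.ker_isPrime _
    have hdvd : (X j - 1 : P) ∣ c * s' * G.1 := ⟨c' * s, by
      linear_combination c * hsc' - c' * hsc⟩
    refine hG (eq_zero_of_dehom G j (Ideal.mem_span_singleton.2 ?_))
    rcases hprime.dvd_or_dvd hdvd with h | h
    · obtain ⟨r, hr⟩ := h
      exact absurd (congrArg (eval x) hr) (by simp [hx, hc, hs'])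
    · exact h
  · refine hdet ?_
    show eval x _ = 0
    rw [RingHom.map_det]
    have : (eval x).mapMatrix (Matrix.of fun i c => D c (f i)) =
        Matrix.vecMulVec (fun i => eval x (a i)) (fun c => eval x (D c (X j))) :=
      Matrix.ext fun i c => hM i c
    rw [this]
    exact Matrix.det_vecMulVec _ _

end Groth.Agent.Quadric29
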